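import Mathlib

/-!
# Ind-objects of cofinite type

`C` is a small abelian category with Artinian objects, each killed by a positive integer.
An object `A : Ind C` has cofinite type if all its torsion subobjects `A[n]`, `n > 0`, come from `C`.
-/

set_option autoImplicit false
universe v

open CategoryTheory CategoryTheory.Limits

namespace Groth.Agent.IndCof.Basic

section Abelian

variable {D : Type*} [Category D] [Preadditive D] [HasKernels D]

/-- the `n`-torsion inclusion -/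
noncomputable def tors (n : ℕ) (A : D) : kernel (n • 𝟙 A) ⟶ A := kernel.ι (n • 𝟙 A)

instance (n : ℕ) (A : D) : Mono (tors n A) := by delta tors; infer_instance

lemma nsmul_tors (n : ℕ) (A : D) : n • tors n A = 0 := by
  have := kernel.condition (n • 𝟙 A)
  rwa [Preadditive.comp_nsmul, Category.comp_id] at this

/-- lift of a morphism killed by `n` to the `n`-torsion -/
noncomputable def lifT {n : ℕ} {T A : D} (x : T ⟶ A) (h : n • x = 0) : T ⟶ kernel (n • 𝟙 A) :=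
  kernel.lift _ x (by simpa [Preadditive.comp_nsmul] using h)

@[reassoc (attr := simp)]
lemma lifT_ι {n : ℕ} {T A : D} (x : T ⟶ A) (h : n • x = 0) : lifT x h ≫ tors n A = x :=
  kernel.lift_ι _ _ _

lemma smul_eq_zero_of_dvd {T A : D} {x : T ⟶ A} {a b : ℕ} (h : a • x = 0) (hab : a ∣ b) :
    b • x = 0 := by
  obtain ⟨c, rfl⟩ := hab
  rw [mul_comm, mul_smul, h, smul_zero]

lemma eq_zero_of_coprime {T A : D} {x : T ⟶ A} {a b : ℕ} (hab : Nat.Coprime a b)
    (ha : a • x = 0) (hb : b • x = 0) : x = 0 :=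
  AddMonoid.addOrderOf_eq_one_iff.mp (Nat.eq_one_of_dvd_coprimes hab
    (addOrderOf_dvd_of_nsmul_eq_zero ha) (addOrderOf_dvd_of_nsmul_eq_zero hb))

/-- If `h` kills `A[q^k₁]` and, up to refinements, the top layer of every `A[q^(k+1)]`, `k ≥ k₁`,
is reached by something killed by `h`, then `h` kills every `A[q^k]`. -/
lemma key {A Z : D} (q k₁ : ℕ) (h : A ⟶ Z) (h0 : tors (q ^ k₁) A ≫ h = 0)
    (step : ∀ k, k₁ ≤ k → ∃ (W : D) (π : W ⟶ kernel (q ^ (k + 1) • 𝟙 A)) (_ : Epi π) (z : W ⟶ A),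
      (q ^ k) • (π ≫ tors (q ^ (k + 1)) A) = (q ^ k) • z ∧ z ≫ h = 0) :
    ∀ k, tors (q ^ k) A ≫ h = 0 := by
  have low : ∀ k, k ≤ k₁ → tors (q ^ k) A ≫ h = 0 := by
    intro k hk
    rw [← lifT_ι (tors (q ^ k) A) (smul_eq_zero_of_dvd (nsmul_tors _ A) (pow_dvd_pow q hk)),
      Category.assoc, h0, comp_zero]
  intro k
  induction k with
  | zero => exact low 0 (Nat.zero_le _)
  | succ k ih =>
    by_cases hk : k₁ ≤ k
    · obtain ⟨W, π, _, z, e1, e2⟩ := step k hk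
      have hd : (q ^ k) • (π ≫ tors (q ^ (k + 1)) A - z) = 0 := by rw [smul_sub, e1, sub_self]
      have : (π ≫ tors (q ^ (k + 1)) A - z) ≫ h = 0 := by
        rw [← lifT_ι _ hd, Category.assoc, ih, comp_zero]
      rw [Preadditive.sub_comp, e2, sub_zero, Category.assoc] at this
      exact (cancel_epi π).mp (this.trans comp_zero.symm)
    · exact low _ (by omega)

end Abelian

lemma exists_dvd_pow_mul (q : ℕ) : ∀ m : ℕ, 0 < m → ∃ k r, Nat.Coprime r q ∧ m ∣ q ^ k * r := by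
  intro m
  induction m using Nat.strong_induction_on with
  | _ m ih =>
    intro hm
    by_cases hc : Nat.Coprime m q
    · exact ⟨0, m, hc, by simp⟩
    · have hg : 1 < Nat.gcd m q := by
        have := Nat.gcd_pos_of_pos_left q hm
        rw [Nat.coprime_iff_gcd_eq_one] at hc
        omega
      have hdvd : Nat.gcd m q ∣ m := Nat.gcd_dvd_left m q
      obtain ⟨k, r, hr, hmr⟩ := ih (m / Nat.gcd m q) (Nat.div_lt_self hm hg)
        (Nat.div_pos (Nat.le_of_dvd hm hdvd) (by omega))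
      refine ⟨k + 1, r, hr, ?_⟩
      calc m = Nat.gcd m q * (m / Nat.gcd m q) := (Nat.mul_div_cancel' hdvd).symm
        _ ∣ q * (q ^ k * r) := mul_dvd_mul (Nat.gcd_dvd_right m q) hmr
        _ = q ^ (k + 1) * r := by ring

variable {C : Type v} [SmallCategory C] [Abelian C]

/-- morphisms out of an ind-object are tested on objects of `C` -/
lemma hom_zero_of_test {A Z : Ind C} (h : A ⟶ Z)
    (H : ∀ (T : C) (x : Ind.yoneda.obj T ⟶ A), x ≫ h = 0) : h = 0 := by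
  rw [← cancel_epi A.colimitPresentationCompYoneda.hom, comp_zero]
  refine colimit.hom_ext fun j => ?_
  rw [comp_zero, ← Category.assoc]
  exact H _ _

instance : (Ind.yoneda (C := C)).Additive := Functor.additive_of_preserves_binary_products _

lemma smul_hom_eq_zero {T : C} {m : ℕ} (hm : m • 𝟙 T = 0) {A : Ind C}
    (x : Ind.yoneda.obj T ⟶ A) : m • x = 0 := by
  have h := congrArg (fun φ => Ind.yoneda.map φ ≫ x) hm
  simpa [Functor.map_nsmul, Preadditive.nsmul_comp] using h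

/-- membership in the essential image of `C` -/
abbrev InC (X : Ind C) : Prop := (Ind.yoneda (C := C)).essImage X

lemma InC.of_iso {X Y : Ind C} (h : InC X) (e : X ≅ Y) : InC Y :=
  Functor.essImage.ofIso e h

lemma inC_biprod {X Y : Ind C} (hX : InC X) (hY : InC Y) : InC (X ⊞ Y) := by
  obtain ⟨X', ⟨eX⟩⟩ := hX
  obtain ⟨Y', ⟨eY⟩⟩ := hY
  have := preservesBinaryBiproducts_of_preservesBinaryProducts (Ind.yoneda (C := C))
  exact ⟨X' ⊞ Y', ⟨Ind.yoneda.mapBiprod X' Y' ≪≫ biprod.mapIso eX eY⟩⟩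

lemma inC_kernel {X Y : Ind C} (hX : InC X) (hY : InC Y) (f : X ⟶ Y) : InC (kernel f) := by
  obtain ⟨X', ⟨eX⟩⟩ := hX
  obtain ⟨Y', ⟨eY⟩⟩ := hY
  let g := Ind.yoneda.preimage (eX.hom ≫ f ≫ eY.inv)
  refine ⟨kernel g, ⟨PreservesKernel.iso Ind.yoneda g ≪≫ kernel.mapIso _ _ eX eY ?_⟩⟩
  simp [g]

lemma inC_cokernel {X Y : Ind C} (hX : InC X) (hY : InC Y) (f : X ⟶ Y) : InC (cokernel f) := by
  obtain ⟨X', ⟨eX⟩⟩ := hX
  obtain ⟨Y', ⟨eY⟩⟩ := hY
  let g := Ind.yoneda.preimage (eX.hom ≫ f ≫ eY.inv)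
  refine ⟨cokernel g, ⟨PreservesCokernel.iso Ind.yoneda g ≪≫ cokernel.mapIso _ _ eX eY ?_⟩⟩
  simp [g]

/-- stabilisation of the images in a fixed object of `C` -/
lemma stab (hart : ∀ X : C, IsArtinianObject X) {ι : Type} [Preorder ι] [Nonempty ι]
    {W₀ : Ind C} (h₀ : InC W₀) {W : ι → Ind C} (hW : ∀ i, InC (W i)) (f : ∀ i, W i ⟶ W₀)
    (hf : ∀ i j, i ≤ j → ∃ t : W j ⟶ W i, t ≫ f i = f j) :
    ∃ i₀, ∀ i j, i₀ ≤ i → i₀ ≤ j → ∃ (T : Ind C) (π : T ⟶ W i) (_ : Epi π) (y : T ⟶ W j),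
      π ≫ f i = y ≫ f j := by
  obtain ⟨X₀, ⟨e₀⟩⟩ := h₀
  choose X hX using hW
  let e := fun i => (hX i).some
  let g : ∀ i, X i ⟶ X₀ := fun i => Ind.yoneda.preimage ((e i).hom ≫ f i ≫ e₀.inv)
  have hle : ∀ i j, i ≤ j → imageSubobject (g j) ≤ imageSubobject (g i) := by
    intro i j hij
    obtain ⟨t, ht⟩ := hf i j hij
    let s := Ind.yoneda.preimage ((e j).hom ≫ t ≫ (e i).inv)
    have : g j = s ≫ g i := Ind.yoneda.map_injective (by simp [g, s, ← ht])
    rw [this]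
    exact imageSubobject_comp_le _ _
  have := hart X₀
  obtain ⟨_, ⟨i₀, rfl⟩, hmin⟩ := wellFounded_lt.has_min (Set.range fun i => imageSubobject (g i))
    (Set.range_nonempty _)
  have heq : ∀ i, i₀ ≤ i → imageSubobject (g i) = imageSubobject (g i₀) := fun i hi =>
    ((hle i₀ i hi).lt_or_eq).resolve_left (hmin _ ⟨i, rfl⟩)
  refine ⟨i₀, fun i j hi hj => ?_⟩
  have hij : imageSubobject (g i) ≤ imageSubobject (g j) := ((heq i hi).trans (heq j hj).symm).le
  obtain ⟨T, π, _, y, hy⟩ := surjective_up_to_refinements_of_epi (factorThruImageSubobject (g j))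
    (factorThruImageSubobject (g i) ≫ Subobject.ofLE _ _ hij)
  have hy' : π ≫ g i = y ≫ g j := by
    simpa [imageSubobject_arrow_comp] using congrArg (fun φ => φ ≫ (imageSubobject (g j)).arrow) hy
  refine ⟨_, Ind.yoneda.map π ≫ (e i).hom, inferInstance, Ind.yoneda.map y ≫ (e j).hom, ?_⟩
  have := congrArg (fun φ => Ind.yoneda.map φ ≫ e₀.hom) hy'
  simpa [g] using this

variable (hart : ∀ X : C, IsArtinianObject X) (htor : ∀ X : C, ∃ n : ℕ, 0 < n ∧ n • 𝟙 X = 0)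

include hart htor

/-- `A = q A + A[q^k]` for some `k`. -/
lemma exists_index (A : Ind C) (hA : ∀ n : ℕ, 0 < n → InC (kernel (n • 𝟙 A))) (q : ℕ) (hq : 0 < q) :
    ∃ k, ∀ {Z : Ind C} (h : A ⟶ Z), q • h = 0 → tors (q ^ k) A ≫ h = 0 → h = 0 := by
  let f : ∀ k : ℕ, kernel (q ^ (k + 1) • 𝟙 A) ⟶ kernel (q • 𝟙 A) := fun k =>
    lifT ((q ^ k) • tors (q ^ (k + 1)) A) (by rw [← mul_smul, ← pow_succ', nsmul_tors])
  obtain ⟨k₁, hk₁⟩ := stab hart (hA q hq) (fun k => hA _ (pow_pos hq (k + 1))) f (fun i j hij => by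
    refine ⟨lifT ((q ^ (j - i)) • tors (q ^ (j + 1)) A) ?_, (cancel_mono (tors q A)).mp ?_⟩
    · rw [← mul_smul, ← pow_add, show i + 1 + (j - i) = j + 1 by omega, nsmul_tors]
    · rw [Category.assoc, lifT_ι, lifT_ι, Preadditive.comp_nsmul, lifT_ι, ← mul_smul, ← pow_add,
        show i + (j - i) = j by omega])
  refine ⟨k₁, fun {Z} h hh h0 => hom_zero_of_test h fun T x => ?_⟩
  have hall := key q k₁ h h0 fun k hk => by
    obtain ⟨W, π, _, y, hy⟩ := hk₁ k (k + 1) hk (by omega)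
    refine ⟨W, π, ‹_›, q • (y ≫ tors (q ^ (k + 1 + 1)) A), ?_, ?_⟩
    · have h2 := congrArg (fun φ => φ ≫ tors q A) hy
      simp only [f, Category.assoc, lifT_ι, Preadditive.comp_nsmul] at h2
      rw [h2, ← mul_smul, ← pow_succ]
    · rw [Preadditive.nsmul_comp, ← Preadditive.comp_nsmul, hh, comp_zero]
  obtain ⟨m, hm, hmT⟩ := htor T
  obtain ⟨k, r, hr, hmr⟩ := exists_dvd_pow_mul q m hm
  have hx := smul_eq_zero_of_dvd (smul_hom_eq_zero hmT x) hmr
  rw [mul_smul] at hx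
  refine eq_zero_of_coprime hr ?_ ?_
  · rw [← Preadditive.nsmul_comp, ← lifT_ι _ hx, Category.assoc, hall, comp_zero]
  · rw [← Preadditive.comp_nsmul, hh, comp_zero]

lemma exists_split (A : Ind C) (hA : ∀ n : ℕ, 0 < n → InC (kernel (n • 𝟙 A))) (q : ℕ) (hq : 0 < q) :
    ∃ k, ∀ {T : Ind C} (u : T ⟶ A), ∃ (T' : Ind C) (π : T' ⟶ T) (_ : Epi π)
      (a₀ : T' ⟶ kernel (q ^ k • 𝟙 A)) (a₁ : T' ⟶ A), π ≫ u = a₀ ≫ tors (q ^ k) A + q • a₁ := by
  obtain ⟨k, hk⟩ := exists_index hart htor A hA q hq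
  have : Epi (biprod.desc (tors (q ^ k) A) (q • 𝟙 A)) := Preadditive.epi_of_cancel_zero _ fun {Z} g hg => by
    refine hk g ?_ ?_
    · simpa [Preadditive.nsmul_comp] using congrArg (fun φ => biprod.inr ≫ φ) hg
    · simpa using congrArg (fun φ => biprod.inl ≫ φ) hg
  refine ⟨k, fun u => ?_⟩
  obtain ⟨T', π, hπ, y, hy⟩ := surjective_up_to_refinements_of_epi
    (biprod.desc (tors (q ^ k) A) (q • 𝟙 A)) u
  refine ⟨T', π, hπ, y ≫ biprod.fst, y ≫ biprod.snd, ?_⟩
  simpa [biprod.desc_eq, Preadditive.comp_add, Preadditive.comp_nsmul] using hy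

lemma cokernel_smul (A : Ind C) (hA : ∀ n : ℕ, 0 < n → InC (kernel (n • 𝟙 A))) (n : ℕ) (hn : 0 < n) :
    InC (cokernel (n • 𝟙 A)) := by
  obtain ⟨k, hk⟩ := exists_index hart htor A hA n hn
  let g : kernel (n ^ (k + 1) • 𝟙 A) ⟶ kernel (n ^ k • 𝟙 A) :=
    lifT (n • tors (n ^ (k + 1)) A) (by rw [← mul_smul, ← pow_succ, nsmul_tors])
  let c := tors (n ^ k) A ≫ cokernel.π (n • 𝟙 A)
  have hcond : n • cokernel.π (n • 𝟙 A) = 0 := by
    have := cokernel.condition (n • 𝟙 A)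
    rwa [Preadditive.nsmul_comp, Category.id_comp] at this
  have hgc : g ≫ c = 0 := by
    simp only [g, c]
    rw [← Category.assoc, lifT_ι, Preadditive.nsmul_comp, ← Preadditive.comp_nsmul, hcond, comp_zero]
  have : Epi c := Preadditive.epi_of_cancel_zero _ fun {Z} h hh => by
    rw [← cancel_epi (cokernel.π (n • 𝟙 A)), comp_zero]
    refine hk _ ?_ (by simpa [c] using hh)
    rw [← Preadditive.nsmul_comp, hcond, zero_comp]
  have hex : (ShortComplex.mk g c hgc).Exact := by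
    rw [ShortComplex.exact_iff_exact_up_to_refinements]
    intro T x hx
    obtain ⟨T', π, hπ, u, hu⟩ := (CokernelCofork.IsColimit.comp_π_eq_zero_iff_up_to_refinements
      (cokernelIsCokernel (n • 𝟙 A)) (x ≫ tors (n ^ k) A)).mp (by simpa [c] using hx)
    rw [Preadditive.comp_nsmul, Category.comp_id] at hu
    have hu' : (n ^ (k + 1)) • u = 0 := by
      rw [pow_succ, mul_smul, ← hu, ← Preadditive.comp_nsmul, ← Preadditive.comp_nsmul, nsmul_tors,
        comp_zero, comp_zero]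
    refine ⟨T', π, hπ, lifT u hu', (cancel_mono (tors (n ^ k) A)).mp ?_⟩
    simp only [g, Category.assoc, lifT_ι, Preadditive.comp_nsmul]
    exact hu
  exact (inC_cokernel (hA _ (pow_pos hn _)) (hA _ (pow_pos hn _)) g).of_iso
    ((cokernelIsCokernel g).coconePointUniqueUpToIso hex.gIsCokernel)

lemma imageSubobject_pow_smul (A : Ind C) (hA : ∀ n : ℕ, 0 < n → InC (kernel (n • 𝟙 A))) (q : ℕ)
    (hq : 0 < q) : ∃ N : ℕ, ∀ n : ℕ, N ≤ n →
      imageSubobject (q ^ n • 𝟙 A) = imageSubobject (q ^ N • 𝟙 A) := by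
  obtain ⟨k, hk⟩ := exists_index hart htor A hA q hq
  have hpow : ∀ d {Z : Ind C} (h : A ⟶ Z), (q ^ d) • h = 0 → tors (q ^ k) A ≫ h = 0 → h = 0 := by
    intro d
    induction d with
    | zero => intro Z h h1 _; simpa using h1
    | succ d ih =>
      intro Z h h1 h0
      refine ih h (hk _ ?_ ?_) h0
      · rw [← mul_smul, ← pow_succ', h1]
      · rw [Preadditive.comp_nsmul, h0, smul_zero]
  refine ⟨k, fun n hn => ?_⟩
  have hsplit : q ^ n • 𝟙 A = (q ^ (n - k) • 𝟙 A) ≫ (q ^ k • 𝟙 A) := by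
    rw [Preadditive.comp_nsmul, Category.comp_id, ← mul_smul, ← pow_add,
      show k + (n - k) = n by omega]
  refine le_antisymm (by rw [hsplit]; exact imageSubobject_comp_le _ _) ?_
  have hn0 : (q ^ n) • cokernel.π (q ^ n • 𝟙 A) = 0 := by
    have := cokernel.condition (q ^ n • 𝟙 A)
    rwa [Preadditive.nsmul_comp, Category.id_comp] at this
  have h0 : (q ^ k • 𝟙 A) ≫ cokernel.π (q ^ n • 𝟙 A) = 0 := by
    rw [Preadditive.nsmul_comp, Category.id_comp]
    refine hpow (n - k) _ ?_ ?_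
    · rw [← mul_smul, ← pow_add, show n - k + k = n by omega, hn0]
    · rw [Preadditive.comp_nsmul, ← Preadditive.nsmul_comp, nsmul_tors, zero_comp]
  let S := ShortComplex.mk (q ^ n • 𝟙 A) (cokernel.π _) (cokernel.condition _)
  rw [(S.exact_iff_image_eq_kernel).mp (S.exact_of_g_is_cokernel (cokernelIsCokernel _))]
  exact imageSubobject_le _ (factorThruKernelSubobject S.g (q ^ k • 𝟙 A) h0)
    (factorThruKernelSubobject_comp_arrow _ _ _)

omit hart htor in
lemma kernel_cofinite {A B : Ind C} (hA : ∀ n : ℕ, 0 < n → InC (kernel (n • 𝟙 A)))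
    (hB : ∀ n : ℕ, 0 < n → InC (kernel (n • 𝟙 B))) (f : A ⟶ B) (n : ℕ) (hn : 0 < n) :
    InC (kernel (n • 𝟙 (kernel f))) := by
  let ψ : kernel (n • 𝟙 A) ⟶ kernel (n • 𝟙 B) :=
    lifT (tors n A ≫ f) (by rw [← Preadditive.nsmul_comp, nsmul_tors, zero_comp])
  let a : kernel ψ ⟶ kernel f := kernel.lift f (kernel.ι ψ ≫ tors n A) (by
    calc (kernel.ι ψ ≫ tors n A) ≫ f = (kernel.ι ψ ≫ ψ) ≫ tors n B := by
          rw [Category.assoc, Category.assoc, lifT_ι]
      _ = 0 := by rw [kernel.condition, zero_comp])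
  let hom : kernel ψ ⟶ kernel (n • 𝟙 (kernel f)) := lifT a ((cancel_mono (kernel.ι f)).mp (by
    simp [a, Preadditive.nsmul_comp, ← Preadditive.comp_nsmul, nsmul_tors]))
  let inv : kernel (n • 𝟙 (kernel f)) ⟶ kernel ψ := kernel.lift ψ
    (lifT (tors n (kernel f) ≫ kernel.ι f) (by rw [← Preadditive.nsmul_comp, nsmul_tors, zero_comp]))
    ((cancel_mono (tors n B)).mp (by simp [ψ]))
  refine (inC_kernel (hA n hn) (hB n hn) ψ).of_iso ⟨hom, inv, ?_, ?_⟩
  · apply (cancel_mono (kernel.ι ψ)).mp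
    apply (cancel_mono (tors n A)).mp
    simp [hom, inv, a]
  · apply (cancel_mono (tors n (kernel f))).mp
    apply (cancel_mono (kernel.ι f)).mp
    simp [hom, inv, a]

lemma cokernel_cofinite {A B : Ind C} (hA : ∀ n : ℕ, 0 < n → InC (kernel (n • 𝟙 A)))
    (hB : ∀ n : ℕ, 0 < n → InC (kernel (n • 𝟙 B))) (f : A ⟶ B) (n : ℕ) (hn : 0 < n) :
    InC (kernel (n • 𝟙 (cokernel f))) := by
  obtain ⟨k, hkA⟩ := exists_split hart htor A hA n hn
  let N := n ^ (k + 1)
  have hN : 0 < N := pow_pos hn _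
  obtain ⟨j, hjK⟩ := exists_split hart htor (kernel f) (kernel_cofinite hA hB f) N hN
  let M := N ^ j * N
  have hM : 0 < M := Nat.mul_pos (pow_pos hN _) hN
  let α : kernel (M • 𝟙 A) ⟶ kernel (M • 𝟙 B) :=
    lifT (tors M A ≫ f) (by rw [← Preadditive.nsmul_comp, nsmul_tors, zero_comp])
  let β : kernel (N • 𝟙 B) ⟶ kernel (M • 𝟙 B) :=
    lifT (tors N B) (smul_eq_zero_of_dvd (nsmul_tors N B) (dvd_mul_left N _))
  let w : kernel (biprod.desc α (-β)) ⟶ kernel (N • 𝟙 B) := kernel.ι _ ≫ biprod.snd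
  let c₀ : kernel (N • 𝟙 B) ⟶ cokernel f := tors N B ≫ cokernel.π f
  have hwc : w ≫ c₀ = 0 := by
    calc w ≫ c₀
        = -((kernel.ι _ ≫ biprod.desc α (-β)) ≫ tors M B ≫ cokernel.π f) := by
          simp [w, c₀, biprod.desc_eq, Preadditive.comp_add, Preadditive.add_comp, α, β]
      _ = 0 := by rw [kernel.condition, zero_comp, neg_zero]
  have hQ₀ : InC (cokernel w) :=
    inC_cokernel (inC_kernel (inC_biprod (hA M hM) (hB N hN)) (hB M hM) _) (hB N hN) w
  let c : cokernel w ⟶ cokernel f := cokernel.desc w c₀ hwc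
  have : Mono c := Preadditive.mono_of_cancel_zero _ fun {T} x hx => by
    obtain ⟨T₁, π₁, _, x', hx'⟩ := surjective_up_to_refinements_of_epi (cokernel.π w) x
    have h1 : (x' ≫ tors N B) ≫ cokernel.π f = 0 := by
      calc (x' ≫ tors N B) ≫ cokernel.π f = (x' ≫ cokernel.π w) ≫ c := by simp [c, c₀]
        _ = 0 := by rw [← hx', Category.assoc, hx, comp_zero]
    obtain ⟨T₂, π₂, _, u, hu⟩ := (CokernelCofork.IsColimit.comp_π_eq_zero_iff_up_to_refinements
      (cokernelIsCokernel f) (x' ≫ tors N B)).mp h1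
    have h2 : (N • u) ≫ f = 0 := by
      rw [Preadditive.nsmul_comp, ← hu, ← Preadditive.comp_nsmul, ← Preadditive.comp_nsmul,
        nsmul_tors, comp_zero, comp_zero]
    obtain ⟨T₃, π₃, _, k₀, k₁, hk⟩ := hjK (kernel.lift f (N • u) h2)
    let a : T₃ ⟶ A := π₃ ≫ u - k₁ ≫ kernel.ι f
    have h3 : N • a = k₀ ≫ tors (N ^ j) (kernel f) ≫ kernel.ι f := by
      have h4 := congrArg (fun φ => φ ≫ kernel.ι f) hk
      simp [Preadditive.add_comp, Preadditive.nsmul_comp, Preadditive.comp_nsmul] at h4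
      rw [smul_sub, h4]
      abel
    have ha : M • a = 0 := by
      rw [mul_smul, h3, ← Preadditive.comp_nsmul, ← Preadditive.nsmul_comp, nsmul_tors, zero_comp,
        comp_zero]
    let z : T₃ ⟶ kernel (biprod.desc α (-β)) := kernel.lift _
      (biprod.lift (lifT a ha) (π₃ ≫ π₂ ≫ x')) ((cancel_mono (tors M B)).mp (by
        simp [biprod.desc_eq, Preadditive.comp_add, Preadditive.add_comp, α, β, a,
          Preadditive.sub_comp, ← hu]))
    have hz : π₃ ≫ π₂ ≫ x' = z ≫ w := by simp [z, w]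
    apply (cancel_epi π₁).mp
    apply (cancel_epi π₂).mp
    apply (cancel_epi π₃).mp
    rw [hx', ← Category.assoc π₂, ← Category.assoc π₃, hz]
    simp
  let κ : kernel (n • 𝟙 (cokernel w)) ⟶ kernel (n • 𝟙 (cokernel f)) :=
    lifT (tors n (cokernel w) ≫ c) (by rw [← Preadditive.nsmul_comp, nsmul_tors, zero_comp])
  have : Mono κ := by
    have : Mono (κ ≫ tors n (cokernel f)) := by simp only [κ, lifT_ι]; infer_instance
    exact mono_of_mono κ (tors n (cokernel f))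
  have : Epi κ := by
    rw [epi_iff_surjective_up_to_refinements]
    intro T x
    obtain ⟨T₁, π₁, _, b, hb⟩ := surjective_up_to_refinements_of_epi (cokernel.π f) (x ≫ tors n _)
    obtain ⟨T₂, π₂, _, u, hu⟩ := (CokernelCofork.IsColimit.comp_π_eq_zero_iff_up_to_refinements
      (cokernelIsCokernel f) (n • b)).mp (by
        show (n • b) ≫ cokernel.π f = 0
        rw [Preadditive.nsmul_comp, ← hb, ← Preadditive.comp_nsmul, ← Preadditive.comp_nsmul,
          nsmul_tors, comp_zero, comp_zero])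
    obtain ⟨T₃, π₃, _, a₀, a₁, ha⟩ := hkA u
    let b' : T₃ ⟶ B := π₃ ≫ π₂ ≫ b - a₁ ≫ f
    have h1 : n • b' = a₀ ≫ tors (n ^ k) A ≫ f := by
      have h2 := congrArg (fun φ => φ ≫ f) ha
      simp [Preadditive.add_comp, Preadditive.nsmul_comp, ← hu, Preadditive.comp_nsmul] at h2
      rw [smul_sub, h2]
      abel
    have hN' : N • b' = 0 := by
      show n ^ (k + 1) • b' = 0
      rw [pow_succ, mul_smul, h1, ← Preadditive.comp_nsmul, ← Preadditive.nsmul_comp, nsmul_tors,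
        zero_comp, comp_zero]
    let y₀ : T₃ ⟶ cokernel w := lifT b' hN' ≫ cokernel.π w
    have hy₀ : y₀ ≫ c = π₃ ≫ π₂ ≫ π₁ ≫ x ≫ tors n _ := by
      simp [y₀, c, c₀, b', hb, Preadditive.sub_comp]
    have hn0 : n • y₀ = 0 := (cancel_mono c).mp (by
      simp [Preadditive.nsmul_comp, hy₀, ← Preadditive.comp_nsmul, nsmul_tors])
    refine ⟨T₃, π₃ ≫ π₂ ≫ π₁, inferInstance, lifT y₀ hn0,
      (cancel_mono (tors n (cokernel f))).mp ?_⟩
    simp [κ, hy₀]
  have := isIso_of_mono_of_epi κ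
  exact (inC_kernel hQ₀ hQ₀ _).of_iso (asIso κ)

omit htor in
lemma subobject_chain (p : ℕ) (hp : 0 < p) (htor' : ∀ X : C, ∃ n : ℕ, (p ^ n) • 𝟙 X = 0)
    (A : Ind C) (hA : InC (kernel (p • 𝟙 A))) (S : ℕ → Subobject A) (hS : Antitone S)
    (hcof : ∀ m n : ℕ, InC (kernel ((p ^ n) • 𝟙 ((S m : Subobject A) : Ind C)))) :
    ∃ N : ℕ, ∀ m : ℕ, N ≤ m → S m = S N := by
  let f : ∀ i : ℕ × ℕ, kernel (p ^ (i.2 + 1) • 𝟙 (S i.1 : Ind C)) ⟶ kernel (p • 𝟙 A) := fun i =>
    lifT ((p ^ i.2) • tors (p ^ (i.2 + 1)) (S i.1 : Ind C) ≫ (S i.1).arrow) (by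
      rw [← mul_smul, ← pow_succ', ← Preadditive.nsmul_comp, nsmul_tors, zero_comp])
  obtain ⟨⟨m₁, k₁⟩, h₁⟩ := stab hart hA (fun i : ℕ × ℕ => hcof i.1 (i.2 + 1)) f (fun i j hij => by
    refine ⟨lifT ((p ^ (j.2 - i.2)) • (tors (p ^ (j.2 + 1)) (S j.1 : Ind C) ≫
      Subobject.ofLE _ _ (hS hij.1))) ?_, (cancel_mono (tors p A)).mp ?_⟩
    · have := hij.2
      rw [← mul_smul, ← pow_add, show i.2 + 1 + (j.2 - i.2) = j.2 + 1 by omega,
        ← Preadditive.nsmul_comp, nsmul_tors, zero_comp]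
    · have := hij.2
      simp only [f, Category.assoc, lifT_ι, Preadditive.comp_nsmul]
      rw [← Category.assoc (lifT _ _), lifT_ι, Preadditive.nsmul_comp, Category.assoc,
        Subobject.ofLE_arrow, ← mul_smul, ← pow_add, show i.2 + (j.2 - i.2) = j.2 by omega])
  let g : ∀ m : ℕ, kernel (p ^ k₁ • 𝟙 (S (max m m₁) : Ind C)) ⟶ kernel (p ^ k₁ • 𝟙 (S m₁ : Ind C)) :=
    fun m => lifT (tors _ _ ≫ Subobject.ofLE _ _ (hS (le_max_right m m₁)))
      (by rw [← Preadditive.nsmul_comp, nsmul_tors, zero_comp])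
  obtain ⟨m₂, h₂⟩ := stab hart (hcof m₁ k₁) (fun m : ℕ => hcof (max m m₁) k₁) g (fun i j hij => by
    refine ⟨lifT (tors _ _ ≫ Subobject.ofLE _ _ (hS (max_le_max_right m₁ hij)))
      (by rw [← Preadditive.nsmul_comp, nsmul_tors, zero_comp]), (cancel_mono (tors _ _)).mp ?_⟩
    simp [g])
  refine ⟨max m₂ m₁, fun m hm => le_antisymm (hS hm) ?_⟩
  let ι₀ : (S m : Ind C) ⟶ (S (max m₂ m₁) : Ind C) := Subobject.ofLE _ _ (hS hm)
  have hπ : cokernel.π ι₀ = 0 := by
    refine hom_zero_of_test _ fun T x => ?_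
    have hall := key p k₁ (cokernel.π ι₀) ?_ fun k hk => ?_
    · obtain ⟨e, he⟩ := htor' T
      rw [← lifT_ι x (smul_hom_eq_zero he x), Category.assoc, hall, comp_zero]
    · obtain ⟨W, π, _, y, hy⟩ := h₂ m₂ m le_rfl (le_trans (le_max_left _ _) hm)
      have h3 := congrArg (fun φ => φ ≫ tors _ _ ≫ (S m₁).arrow) hy
      simp [g] at h3
      have h4 : π ≫ tors (p ^ k₁) (S (max m₂ m₁) : Ind C) =
          y ≫ tors _ _ ≫ Subobject.ofLE _ _ (hS (le_max_left m m₁)) ≫ ι₀ := by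
        apply (cancel_mono (S (max m₂ m₁)).arrow).mp
        simp [ι₀, h3]
      rw [← cancel_epi π, ← Category.assoc, h4]
      simp
    · obtain ⟨W, π, _, y, hy⟩ := h₁ (max m₂ m₁, k) (m, k) ⟨le_max_right _ _, hk⟩
        ⟨le_trans (le_max_right _ _) hm, hk⟩
      refine ⟨W, π, ‹_›, y ≫ tors _ _ ≫ ι₀, ?_, by simp⟩
      apply (cancel_mono (S (max m₂ m₁)).arrow).mp
      have h3 := congrArg (fun φ => φ ≫ tors p A) hy
      simpa [f, ι₀, Preadditive.nsmul_comp, Preadditive.comp_nsmul] using h3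
  have : Epi ι₀ := Preadditive.epi_of_cokernel_zero hπ
  have := isIso_of_mono_of_epi ι₀
  exact Subobject.le_of_comm (inv ι₀) (by simp [ι₀])

omit hart htor in
/-- in the `p`-primary case it suffices to control `A[p^n]` -/
lemma cofinite_of_pow (p : ℕ) (hp : p.Prime) (htor' : ∀ X : C, ∃ n : ℕ, (p ^ n) • 𝟙 X = 0)
    (A : Ind C) (hA : ∀ n : ℕ, InC (kernel ((p ^ n) • 𝟙 A))) (n : ℕ) (hn : 0 < n) :
    InC (kernel (n • 𝟙 A)) := by
  obtain ⟨a, r, hr, rfl⟩ := Nat.exists_eq_pow_mul_and_not_dvd hn.ne' p hp.ne_one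
  have h0 : (p ^ a) • tors (p ^ a * r) A = 0 := hom_zero_of_test _ fun T x => by
    obtain ⟨e, he⟩ := htor' T
    refine eq_zero_of_coprime (a := r) (b := p ^ e)
      ((hp.coprime_iff_not_dvd.mpr hr).symm.pow_right e) ?_ ?_
    · rw [← Preadditive.comp_nsmul, ← mul_smul, mul_comm r, nsmul_tors, comp_zero]
    · rw [← Preadditive.nsmul_comp, smul_hom_eq_zero he x, zero_comp]
  refine (hA a).of_iso ⟨lifT (tors _ A) (smul_eq_zero_of_dvd (nsmul_tors _ A) (dvd_mul_right _ r)),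
    lifT (tors _ A) h0, ?_, ?_⟩
  · exact (cancel_mono (tors _ A)).mp (by simp)
  · exact (cancel_mono (tors _ A)).mp (by simp)

end Groth.Agent.IndCof.Basic
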