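import Mathlib

/-! Divisible subobjects and images of multiplication. -/

set_option autoImplicit false

open CategoryTheory CategoryTheory.Limits

namespace Groth.Agent.IndCof.Divisible

universe v u

variable {V : Type u} [Category.{v} V] [Abelian V] {B : V}

lemma imageSubobject_le_of_comp_π {X : V} {f : X ⟶ B} {B' : Subobject B}
    (h : f ≫ cokernel.π B'.arrow = 0) : imageSubobject f ≤ B' :=
  imageSubobject_le f (Abelian.monoLift B'.arrow f h) (Abelian.monoLift_comp _ _ _)

lemma comp_π_imageSubobject {X : V} (f : X ⟶ B) : f ≫ cokernel.π (imageSubobject f).arrow = 0 := by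
  calc f ≫ cokernel.π (imageSubobject f).arrow
      = (factorThruImageSubobject f ≫ (imageSubobject f).arrow) ≫
          cokernel.π (imageSubobject f).arrow := by rw [imageSubobject_arrow_comp]
    _ = 0 := by rw [Category.assoc, cokernel.condition, comp_zero]

lemma le_imageSubobject_of_epi_smul (D : Subobject B) (k : ℕ) [Epi (k • 𝟙 (D : V))] :
    D ≤ imageSubobject (k • 𝟙 B) := by
  have h : D.arrow ≫ cokernel.π (imageSubobject (k • 𝟙 B)).arrow = 0 := by
    rw [← cancel_epi (k • 𝟙 (D : V)), comp_zero, ← Category.assoc,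
      show (k • 𝟙 (D : V)) ≫ D.arrow = D.arrow ≫ (k • 𝟙 B) by
        simp [Preadditive.comp_nsmul, Preadditive.nsmul_comp]]
    rw [Category.assoc, comp_π_imageSubobject, comp_zero]
  exact Subobject.le_of_comm (Abelian.monoLift _ _ h) (Abelian.monoLift_comp _ _ _)

lemma imageSubobject_smul_le (B' : Subobject B) (M : ℕ) (hM : M • 𝟙 (cokernel B'.arrow) = 0) :
    imageSubobject (M • 𝟙 B) ≤ B' :=
  imageSubobject_le_of_comp_π (by
    have := congrArg (fun φ => cokernel.π B'.arrow ≫ φ) hM
    simpa [Preadditive.comp_nsmul, Preadditive.nsmul_comp] using this)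

lemma smul_cokernel_image (m : ℕ) : m • 𝟙 (cokernel (imageSubobject (m • 𝟙 B)).arrow) = 0 := by
  rw [← cancel_epi (cokernel.π (imageSubobject (m • 𝟙 B)).arrow), comp_zero]
  have := comp_π_imageSubobject (m • 𝟙 B)
  rw [Preadditive.nsmul_comp, Category.id_comp] at this
  rw [Preadditive.comp_nsmul, Category.comp_id, this]

lemma epi_smul_imageSubobject (m k : ℕ)
    (h : imageSubobject ((m * k) • 𝟙 B) = imageSubobject (m • 𝟙 B)) :
    Epi (k • 𝟙 (imageSubobject (m • 𝟙 B) : V)) := by
  have he : k • factorThruImageSubobject (m • 𝟙 B) =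
      factorThruImageSubobject ((m * k) • 𝟙 B) ≫ Subobject.ofLE _ _ h.le := by
    rw [← cancel_mono (imageSubobject (m • 𝟙 B)).arrow, Category.assoc, Subobject.ofLE_arrow,
      imageSubobject_arrow_comp, Preadditive.nsmul_comp, imageSubobject_arrow_comp, ← mul_smul,
      mul_comm m k]
  have : IsIso (Subobject.ofLE _ _ h.le) := ⟨⟨Subobject.ofLE _ _ h.ge, by simp, by simp⟩⟩
  have : Epi (factorThruImageSubobject (m • 𝟙 B) ≫ (k • 𝟙 (imageSubobject (m • 𝟙 B) : V))) := by
    rw [Preadditive.comp_nsmul, Category.comp_id, he]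
    infer_instance
  exact epi_of_epi (factorThruImageSubobject (m • 𝟙 B)) _

end Groth.Agent.IndCof.Divisible
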